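import Mathlib
import Cfsg.Prelude.Def_Classical
import Cfsg.Prelude.Def_CaseTheorems
import Cfsg.Prelude.Def_Local
import Cfsg.Prelude.Def_Transfer
import Cfsg.Prelude.Def_Amalgam

/-! Simple groups of order `p * 3 ^ a * 2 ^ b`: common definitions. -/

set_option autoImplicit false
open Cfsg

namespace Cfsg.Agent.K3

/-- The eight groups. -/
def Tgt (G : Type*) [Group G] : Prop :=
  Nonempty (G ≃* alternatingGroup (Fin 5)) ∨ Nonempty (G ≃* alternatingGroup (Fin 6)) ∨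
    (∃ (F : Type) (_ : Field F) (_ : Fintype F), Fintype.card F = 3 ∧ Nonempty (G ≃* Cfsg.PSp 2 F)) ∨
    (∃ (F : Type) (_ : Field F) (_ : Fintype F),
      (Fintype.card F = 7 ∨ Fintype.card F = 8 ∨ Fintype.card F = 17) ∧
        Nonempty (G ≃* Matrix.ProjectiveSpecialLinearGroup (Fin 2) F)) ∨
    (∃ (F : Type) (_ : Field F) (_ : Fintype F), Fintype.card F = 9 ∧ Nonempty (G ≃* Cfsg.PSU 3 F 3)) ∨
    (∃ (F : Type) (_ : Field F) (_ : Fintype F), Fintype.card F = 3 ∧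
      Nonempty (G ≃* Matrix.ProjectiveSpecialLinearGroup (Fin 3) F))

/-- `n = p * 3 ^ a * 2 ^ b` with `p` one of `5, 7, 13, 17`. -/
def Shape (p n : ℕ) : Prop :=
  (p = 5 ∨ p = 7 ∨ p = 13 ∨ p = 17) ∧ ∃ a b : ℕ, n = p * 3 ^ a * 2 ^ b

/-- No elementary abelian group of order nine normalises a nontrivial 2-subgroup. -/
def Thin (G : Type*) [Group G] : Prop :=
  ∀ T E : Subgroup G, IsPGroup 2 T → T ≠ ⊥ → E ≤ Subgroup.normalizer (T : Set G) →
    IsElementaryAbelian 3 E → Nat.card E ≠ 9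

/-- No four-group centralises an element of order three. -/
def Four (G : Type*) [Group G] : Prop :=
  ∀ y u v : G, orderOf y = 3 → orderOf u = 2 → orderOf v = 2 → Commute y u → Commute y v →
    Commute u v → u = v

/-- The centraliser of every element of order three contains the centraliser of its 3-core inside
that core. -/
def Char3 (G : Type*) [Group G] : Prop :=
  ∀ y : G, orderOf y = 3 → ∀ g ∈ Subgroup.centralizer ({y} : Set G),
    g ∈ Subgroup.centralizer (pCoreOf 3 (Subgroup.centralizer ({y} : Set G)) : Set G) →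
      g ∈ pCoreOf 3 (Subgroup.centralizer ({y} : Set G))

theorem Shape.prime {p n : ℕ} (h : Shape p n) : p.Prime := by
  rcases h.1 with rfl | rfl | rfl | rfl <;> norm_num

theorem Shape.five_le {p n : ℕ} (h : Shape p n) : 5 ≤ p := by
  rcases h.1 with rfl | rfl | rfl | rfl <;> norm_num

theorem Shape.dvd {p n : ℕ} (h : Shape p n) : p ∣ n := by
  obtain ⟨a, b, rfl⟩ := h.2
  exact Dvd.intro _ (mul_assoc _ _ _).symm

/-- The only prime divisor of `n` above three is `p`. -/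
theorem Shape.eq_of_dvd {p n r : ℕ} (h : Shape p n) (hr : r.Prime) (h5 : 5 ≤ r) (hd : r ∣ n) :
    r = p := by
  obtain ⟨a, b, rfl⟩ := h.2
  rcases (Nat.Prime.dvd_mul hr).1 hd with h1 | h1
  · rcases (Nat.Prime.dvd_mul hr).1 h1 with h2 | h2
    · exact (Nat.prime_dvd_prime_iff_eq hr h.prime).1 h2
    · have := Nat.le_of_dvd (by norm_num) (hr.dvd_of_dvd_pow h2); omega
  · have := Nat.le_of_dvd (by norm_num) (hr.dvd_of_dvd_pow h1); omega

/-- Two distinct primes above three cannot both divide `n`. -/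
theorem Shape.not_two {p n r s : ℕ} (h : Shape p n) (hr : r.Prime) (hs : s.Prime) (h5 : 5 ≤ r)
    (h5' : 5 ≤ s) (hne : r ≠ s) (hd : r ∣ n) (hd' : s ∣ n) : False :=
  hne ((h.eq_of_dvd hr h5 hd).trans (h.eq_of_dvd hs h5' hd').symm)

/-- The square of a prime above three does not divide `n`. -/
theorem Shape.not_sq {p n r : ℕ} (h : Shape p n) (hr : r.Prime) (h5 : 5 ≤ r) (hd : r * r ∣ n) :
    False := by
  obtain rfl : r = p := h.eq_of_dvd hr h5 (Dvd.dvd.trans (Dvd.intro _ rfl) hd)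
  obtain ⟨a, b, rfl⟩ := h.2
  rw [mul_assoc] at hd
  have h1 := Nat.dvd_of_mul_dvd_mul_left hr.pos hd
  rcases (Nat.Prime.dvd_mul hr).1 h1 with h2 | h2
  · have := Nat.le_of_dvd (by norm_num) (hr.dvd_of_dvd_pow h2); omega
  · have := Nat.le_of_dvd (by norm_num) (hr.dvd_of_dvd_pow h2); omega

/-- A divisor of `n` that is a multiple of `p` has the same shape. -/
theorem Shape.of_dvd {p n m : ℕ} (h : Shape p n) (hm : m ∣ n) (hp : p ∣ m) : Shape p m := by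
  refine ⟨h.1, ?_⟩
  obtain ⟨a, b, rfl⟩ := h.2
  obtain ⟨k, rfl⟩ := hp
  rw [mul_assoc] at hm
  obtain ⟨k1, k2, h1, h2, rfl⟩ :=
    (Nat.dvd_mul.1 (Nat.dvd_of_mul_dvd_mul_left h.prime.pos hm))
  obtain ⟨i, -, rfl⟩ := (Nat.dvd_prime_pow Nat.prime_three).1 h1
  obtain ⟨j, -, rfl⟩ := (Nat.dvd_prime_pow Nat.prime_two).1 h2
  exact ⟨i, j, (mul_assoc _ _ _).symm⟩

/-- A divisor of `n` prime to `p` is a `{2,3}`-number. -/
theorem Shape.of_not_dvd {p n m : ℕ} (h : Shape p n) (hm : m ∣ n) (hp : ¬ p ∣ m) :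
    ∃ i j : ℕ, m = 3 ^ i * 2 ^ j := by
  obtain ⟨a, b, rfl⟩ := h.2
  rw [mul_assoc] at hm
  obtain ⟨k1, k2, h1, h2, rfl⟩ := Nat.dvd_mul.1
    (((Nat.Prime.coprime_iff_not_dvd h.prime).2 hp).symm.dvd_of_dvd_mul_left hm)
  obtain ⟨i, -, rfl⟩ := (Nat.dvd_prime_pow Nat.prime_three).1 h1
  obtain ⟨j, -, rfl⟩ := (Nat.dvd_prime_pow Nat.prime_two).1 h2
  exact ⟨i, j, rfl⟩

theorem Tgt.congr {G H : Type*} [Group G] [Group H] (e : G ≃* H) (h : Tgt H) : Tgt G := by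
  rcases h with ⟨⟨f⟩⟩ | ⟨⟨f⟩⟩ | ⟨F, i, j, h, ⟨f⟩⟩ | ⟨F, i, j, h, ⟨f⟩⟩ | ⟨F, i, j, h, ⟨f⟩⟩ |
    ⟨F, i, j, h, ⟨f⟩⟩
  · exact .inl ⟨e.trans f⟩
  · exact .inr (.inl ⟨e.trans f⟩)
  · exact .inr (.inr (.inl ⟨F, i, j, h, ⟨e.trans f⟩⟩))
  · exact .inr (.inr (.inr (.inl ⟨F, i, j, h, ⟨e.trans f⟩⟩)))
  · exact .inr (.inr (.inr (.inr (.inl ⟨F, i, j, h, ⟨e.trans f⟩⟩))))
  · exact .inr (.inr (.inr (.inr (.inr ⟨F, i, j, h, ⟨e.trans f⟩⟩))))

end Cfsg.Agent.K3
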