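import Mathlib
import Cfsg.Agent.K3.Defs
import Cfsg.Agent.Cl.LinearBasic
import Cfsg.Agent.Cl.Sm.Base
import Cfsg.Agent.Inv.BenderOrd
import Cfsg.Agent.S0243
import Cfsg.Agent.S0245
import Cfsg.Agent.S0494
import Cfsg.Agent.S0497

/-! The groups `PSL₂(q)` of order `p * 3 ^ a * 2 ^ b`; the orders of the eight groups. -/

set_option autoImplicit false
open Cfsg

namespace Cfsg.Agent.K3

theorem Shape.dvd_two_mul {p n u : ℕ} (h : Shape p n) (hu : u ∣ n) (h3 : ¬ 3 ∣ u) (h4 : ¬ 4 ∣ u) :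
    u ∣ 2 * p := by
  obtain ⟨a, b, rfl⟩ := h.2
  obtain ⟨k, k3, h1, h2, rfl⟩ := Nat.dvd_mul.1 hu
  obtain ⟨k1, k2, h5, h6, rfl⟩ := Nat.dvd_mul.1 h1
  obtain ⟨i, -, rfl⟩ := (Nat.dvd_prime_pow Nat.prime_three).1 h6
  obtain ⟨j, -, rfl⟩ := (Nat.dvd_prime_pow Nat.prime_two).1 h2
  obtain rfl : i = 0 := by
    by_contra ne
    exact h3 (((dvd_pow_self 3 ne).mul_left _).mul_right _)
  have hj : j ≤ 1 := by
    by_contra ne
    exact h4 ((pow_dvd_pow 2 (show 2 ≤ j by omega)).mul_left _)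
  rw [pow_zero, mul_one, mul_comm]
  exact mul_dvd_mul (pow_dvd_pow 2 hj) h5

theorem Shape.three {p q : ℕ} (h : Shape p (q * (q ^ 2 - 1))) :
    q = 4 ∨ q = 5 ∨ q = 7 ∨ q = 8 ∨ q = 9 ∨ q = 17 := by
  have hp : 0 < 2 * p ∧ 2 * p ≤ 34 := by rcases h.1 with rfl | rfl | rfl | rfl <;> norm_num
  have hq : q ≤ 35 := by
    obtain _ | k := q
    · omega
    have e : (k + 1) * ((k + 1) ^ 2 - 1) = k * (k + 1) * (k + 2) := by
      rw [show (k + 1) ^ 2 - 1 = k * (k + 2) from Nat.sub_eq_of_eq_add (by ring)]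
      ring
    rw [e] at h
    have h0 := fun h3 h4 => Nat.le_of_dvd hp.1 (h.dvd_two_mul (u := k) (((dvd_refl _).mul_right _).mul_right _) h3 h4)
    have h1 := fun h3 h4 =>
      Nat.le_of_dvd hp.1 (h.dvd_two_mul (u := k + 1) (((dvd_refl _).mul_left _).mul_right _) h3 h4)
    have h2 := fun h3 h4 => Nat.le_of_dvd hp.1 (h.dvd_two_mul (u := k + 2) ((dvd_refl _).mul_left _) h3 h4)
    omega
  have h1 := h.dvd
  have h2 : q * (q ^ 2 - 1) ∣ p * 3 ^ 16 * 2 ^ 16 := by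
    have h3 : q * (q ^ 2 - 1) ≤ 35 * 35 ^ 2 := Nat.mul_le_mul hq ((Nat.sub_le _ _).trans (Nat.pow_le_pow_left hq 2))
    obtain ⟨a, b, e⟩ := h.2
    rw [e] at h3 ⊢
    have h4 : 0 < p * 3 ^ a * 2 ^ b := by have : 0 < p := by omega
                                          positivity
    have ha : 3 ^ a < 3 ^ 16 :=
      ((Nat.le_of_dvd h4 (((dvd_refl _).mul_left _).mul_right _)).trans h3).trans_lt (by norm_num)
    have hb : 2 ^ b < 2 ^ 16 := ((Nat.le_of_dvd h4 ((dvd_refl _).mul_left _)).trans h3).trans_lt (by norm_num)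
    exact mul_dvd_mul (mul_dvd_mul_left _ (pow_dvd_pow _ ((Nat.pow_lt_pow_iff_right (by norm_num)).1 ha).le))
      (pow_dvd_pow _ ((Nat.pow_lt_pow_iff_right (by norm_num)).1 hb).le)
  have key : ∀ p ∈ [5, 7, 13, 17], ∀ q ≤ 35, p ∣ q * (q ^ 2 - 1) → q * (q ^ 2 - 1) ∣ p * 3 ^ 16 * 2 ^ 16 →
      q = 4 ∨ q = 5 ∨ q = 7 ∨ q = 8 ∨ q = 9 ∨ q = 17 := by decide +kernel
  exact key p (by simpa using h.1) q hq h1 h2

theorem tgt_psl2 {G : Type*} [Group G] [Finite G] [IsSimpleGroup G] (hG : ¬ IsMulCommutative G)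
    {p : ℕ} (h : Shape p (Nat.card G)) {F : Type} [Field F] [Fintype F]
    (e : G ≃* Matrix.ProjectiveSpecialLinearGroup (Fin 2) F) : Tgt G := by
  have h1 := Cl.card_psl_two_mul (F := F)
  rw [← Nat.card_congr e.toEquiv, Nat.card_eq_fintype_card (α := F)] at h1
  have h2 : Shape p (Fintype.card F * (Fintype.card F ^ 2 - 1)) := by
    obtain ⟨a, b, h3⟩ := h.2
    rw [← h1, h3]
    rcases (Nat.dvd_prime Nat.prime_two).1 (Nat.gcd_dvd_left 2 (Fintype.card F - 1)) with h4 | h4 <;> rw [h4]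
    · exact ⟨h.1, a, b, one_mul _⟩
    · exact ⟨h.1, a, b + 1, by ring⟩
  rcases h2.three with h3 | h3 | h3 | h3 | h3 | h3
  · exact .inl (S0494.result (by rw [h3] at h1; norm_num at h1; omega))
  · exact .inl (S0494.result (by rw [h3] at h1; norm_num at h1; omega))
  · exact .inr (.inr (.inr (.inl ⟨F, _, _, .inl h3, ⟨e⟩⟩)))
  · exact .inr (.inr (.inr (.inl ⟨F, _, _, .inr (.inl h3), ⟨e⟩⟩)))
  · exact .inr (.inl (S0497.result (by rw [h3] at h1; norm_num at h1; omega)))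
  · exact .inr (.inr (.inr (.inl ⟨F, _, _, .inr (.inr h3), ⟨e⟩⟩)))

theorem Tgt.cases {G : Type*} [Group G] (h : Tgt G) :
    (Nat.card G = 60 ∧ Nonempty (G ≃* alternatingGroup (Fin 5))) ∨
    (Nat.card G = 360 ∧ Nonempty (G ≃* alternatingGroup (Fin 6))) ∨
    Nat.card G = 25920 ∨ Nat.card G = 168 ∨
    (Nat.card G = 504 ∧ ∃ (F : Type) (_ : Field F) (_ : Fintype F), Fintype.card F = 8 ∧
      Nonempty (G ≃* Matrix.ProjectiveSpecialLinearGroup (Fin 2) F)) ∨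
    (Nat.card G = 2448 ∧ ∃ (F : Type) (_ : Field F) (_ : Fintype F), Fintype.card F = 17 ∧
      Nonempty (G ≃* Matrix.ProjectiveSpecialLinearGroup (Fin 2) F)) ∨
    Nat.card G = 6048 ∨ Nat.card G = 5616 := by
  rcases h with ⟨⟨e⟩⟩ | ⟨⟨e⟩⟩ | ⟨F, i, j, h, ⟨e⟩⟩ | ⟨F, i, j, h, ⟨e⟩⟩ | ⟨F, i, j, h, ⟨e⟩⟩ | ⟨F, i, j, h, ⟨e⟩⟩
  · refine .inl ⟨?_, ⟨e⟩⟩
    rw [Nat.card_congr e.toEquiv, Nat.card_eq_fintype_card, card_alternatingGroup]
    rfl
  · refine .inr (.inl ⟨?_, ⟨e⟩⟩)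
    rw [Nat.card_congr e.toEquiv, Nat.card_eq_fintype_card, card_alternatingGroup]
    rfl
  · have h1 := Cl.Sm.card_psp_mul (F := F) (m := 2) (by norm_num)
    rw [← Nat.card_congr e.toEquiv, S0245.result h, Nat.card_eq_fintype_card (α := F), h] at h1
    norm_num [Finset.prod_range_succ] at h1
    omega
  · have h1 := Cl.card_psl_two_mul (F := F)
    rw [← Nat.card_congr e.toEquiv, Nat.card_eq_fintype_card (α := F)] at h1
    rcases h with h | h | h <;> rw [h] at h1 <;> norm_num at h1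
    · omega
    · exact .inr (.inr (.inr (.inr (.inl ⟨h1, F, i, j, h, ⟨e⟩⟩))))
    · exact .inr (.inr (.inr (.inr (.inr (.inl ⟨by omega, F, i, j, h, ⟨e⟩⟩)))))
  · have h1 := Inv.BO.card_psu_three (F := F) (q := 3) h
    rw [← Nat.card_congr e.toEquiv] at h1
    norm_num at h1
    omega
  · have h1 := S0243.result h 3 (by norm_num)
    rw [← Nat.card_congr e.toEquiv] at h1
    norm_num [Fin.prod_univ_three] at h1
    omega

end Cfsg.Agent.K3
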