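import Mathlib
import Cfsg.Prelude.Def_Exceptional
import Cfsg.Agent.K3.Defs
import Cfsg.Agent.K3.OrdA
import Cfsg.Agent.S0243
import Cfsg.Agent.S0245
import Cfsg.Agent.S0495
import Cfsg.Agent.Cl.Sm.Base
import Cfsg.Agent.Inv.BenderOrd

/-! Order checks in characteristic two (see stubs/Cfsg/Agent/K3/PLAN.md). -/

set_option autoImplicit false
set_option linter.unusedVariables false
open Cfsg

namespace Cfsg.Agent.K3

namespace OrdB

theorem odd_dvd {p n u : ℕ} (h : Shape p n) (hu : u ∣ n) (ho : ¬ 2 ∣ u) (h3 : ¬ 3 ∣ u) :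
    u ≤ p := by
  have key : u = 1 ∨ u = p ∨ 3 ∣ u := by
    by_cases hp : p ∣ u
    · obtain ⟨-, i, j, rfl⟩ := h.of_dvd hu hp
      rcases j with _ | j
      · rcases i with _ | i
        · simp
        · exact Or.inr (Or.inr ⟨p * 3 ^ i, by ring⟩)
      · exact absurd ⟨p * 3 ^ i * 2 ^ j, by ring⟩ ho
    · obtain ⟨i, j, rfl⟩ := h.of_not_dvd hu hp
      rcases j with _ | j
      · rcases i with _ | i
        · simp
        · exact Or.inr (Or.inr ⟨3 ^ i, by ring⟩)
      · exact absurd ⟨3 ^ i * 2 ^ j, by ring⟩ ho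
  have := h.five_le
  omega

/-- With `q = k + 1` even and at least four, `q² - 1 ∣ n` forces `q = 4` or `q = 8`. -/
theorem pair {p n k : ℕ} (h : Shape p n) (hk : 3 ≤ k) (ho : k % 2 = 1) (hd : k * (k + 2) ∣ n) :
    k = 3 ∨ k = 7 := by
  have h1 := odd_dvd h ((dvd_mul_right _ _).trans hd) (by omega)
  have h2 := odd_dvd h ((dvd_mul_left _ _).trans hd) (by omega)
  have h3 := h.1
  have h4 : k ≤ 17 := by omega
  have two : ∀ r s : ℕ, r.Prime → s.Prime → 5 ≤ r → r < s → r * s ∣ k * (k + 2) → False :=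
    fun r s hr hs h5 hl e => h.not_two hr hs h5 (by omega) hl.ne ((dvd_mul_right _ _).trans (e.trans hd))
      ((dvd_mul_left _ _).trans (e.trans hd))
  interval_cases k
  all_goals first | omega | exfalso
  · exact two 5 7 (by norm_num) (by norm_num) le_rfl (by decide) (by decide)
  · have := h.eq_of_dvd (r := 11) (by norm_num) (by decide) ((by decide : 11 ∣ 9 * (9 + 2)).trans hd)
    omega
  · exact two 11 13 (by norm_num) (by norm_num) (by decide) (by decide) (by decide)
  · exact two 5 13 (by norm_num) (by norm_num) le_rfl (by decide) (by decide)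
  · exact two 5 17 (by norm_num) (by norm_num) le_rfl (by decide) (by decide)

theorem sub_eq (q i d : ℕ) : q ^ (i + d) - q ^ i = q ^ i * (q ^ d - 1) := by
  rw [pow_add, Nat.mul_sub_one]

theorem card_odd {F : Type*} [Field F] [Fintype F] [CharP F 2] : ∃ k, k % 2 = 1 ∧ Fintype.card F = k + 1 := by
  have := FiniteField.even_card_of_char_two (ringChar.eq F 2)
  have := Fintype.card_pos (α := F)
  exact ⟨Fintype.card F - 1, by omega, by omega⟩

end OrdB

open OrdB

theorem tgt_psl_even {G : Type*} [Group G] [Finite G] [IsSimpleGroup G] (hG : ¬ IsMulCommutative G)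
    {p : ℕ} (h : Shape p (Nat.card G)) {F : Type} [Field F] [Fintype F] [CharP F 2] {n : ℕ}
    (hn : 2 ≤ n) (e : G ≃* Matrix.ProjectiveSpecialLinearGroup (Fin n) F) : Tgt G := by
  rcases hn.eq_or_lt with rfl | h3
  · exact tgt_psl2 hG h e
  obtain ⟨m, rfl⟩ : ∃ m, n = m + 3 := ⟨n - 3, by omega⟩
  obtain ⟨k, ho, hk⟩ := card_odd (F := F)
  have hc := S0243.result hk (m + 3) hn
  rw [← Nat.card_congr e.toEquiv, Fin.prod_univ_eq_prod_range (fun i => (k + 1) ^ (m + 3) - (k + 1) ^ i),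
    Nat.add_sub_cancel, Finset.prod_range_succ, Finset.prod_range_succ, Finset.prod_range_succ,
    sub_eq, sub_eq _ (m + 1) 2, sub_eq _ (m + 2) 1, show (k + 1) ^ 3 - 1 = k * (k ^ 2 + 3 * k + 3) from
      Nat.sub_eq_of_eq_add (by ring), show (k + 1) ^ 2 - 1 = k * (k + 2) from Nat.sub_eq_of_eq_add (by ring),
    pow_one, Nat.add_sub_cancel] at hc
  have hd : k * (k + 2) * (k ^ 2 + 3 * k + 3) ∣ Nat.card G := by
    refine Nat.dvd_of_mul_dvd_mul_left (show 0 < k by omega) (Nat.dvd_of_mul_dvd_mul_left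
      (show 0 < k by omega) (dvd_trans ?_ (Nat.mul_dvd_mul_right (Nat.gcd_dvd_right (m + 3) k) _)))
    rw [hc]
    exact ⟨(∏ i ∈ Finset.range m, ((k + 1) ^ (m + 3) - (k + 1) ^ i)) * (k + 1) ^ m * (k + 1) ^ (m + 1) *
      (k + 1) ^ (m + 2), by ring⟩
  by_cases h1 : k = 1
  · subst h1
    rcases m with _ | m
    · have := Fact.mk (by norm_num : Nat.Prime 7)
      exact .inr (.inr (.inr (.inl ⟨ZMod 7, inferInstance, inferInstance, Or.inl (ZMod.card 7),
        S0495.result (by simpa using hc) (ZMod.card 7)⟩)))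
    · refine (h.not_two (r := 5) (s := 7) (by norm_num) (by norm_num) le_rfl (by decide) (by decide) ?_
        ((by decide : 7 ∣ 1 * (1 + 2) * (1 ^ 2 + 3 * 1 + 3)).trans hd)).elim
      rw [Nat.gcd_one_right, one_mul, one_mul, Finset.prod_range_succ, sub_eq _ m 4] at hc
      rw [hc]
      exact (((((by decide : 5 ∣ (1 + 1) ^ 4 - 1).mul_left _).mul_left _).mul_right _).mul_right _).mul_right _
  rcases pair h (by omega) ho ((dvd_mul_right _ _).trans hd) with rfl | rfl
  · exact (h.not_two (r := 5) (s := 7) (by norm_num) (by norm_num) le_rfl (by decide) (by decide)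
      (dvd_trans (by decide) hd) (dvd_trans (by decide) hd)).elim
  · exact (h.not_two (r := 7) (s := 73) (by norm_num) (by norm_num) (by decide) (by decide) (by decide)
      (dvd_trans (by decide) hd) (dvd_trans (by decide) hd)).elim

theorem not_psu3_even {G : Type*} [Group G] {p : ℕ} (h : Shape p (Nat.card G)) {F : Type*} [Field F]
    [Fintype F] {q : ℕ} (hq : Fintype.card F = q ^ 2) (he : Even q) (h4 : 4 ≤ q)
    (e : G ≃* Cfsg.PSU 3 F q) : False := by
  obtain ⟨k, rfl⟩ : ∃ k, q = k + 1 := ⟨q - 1, by omega⟩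
  have hc := Inv.BO.card_psu_three hq
  obtain ⟨c, h1⟩ := Nat.gcd_dvd_right 3 (k + 1 + 1)
  have hd : k * (k + 2) * (k ^ 2 + k + 1) ∣ Nat.card G := by
    refine ⟨(k + 1) ^ 3 * c, Nat.eq_of_mul_eq_mul_left (Nat.gcd_pos_of_pos_left (k + 1 + 1) three_pos) ?_⟩
    rw [Nat.card_congr e.toEquiv, hc, show (k + 1) ^ 2 - 1 = k * (k + 2) from Nat.sub_eq_of_eq_add (by ring),
      show (k + 1) ^ 3 + 1 = (k + 1 + 1) * (k ^ 2 + k + 1) by ring]
    generalize Nat.gcd 3 (k + 1 + 1) = g at h1 ⊢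
    rw [h1]
    ring
  rcases pair h (by omega) (by have := Nat.even_iff.1 he; omega) ((dvd_mul_right _ _).trans hd) with rfl | rfl
  · exact h.not_two (r := 5) (s := 13) (by norm_num) (by norm_num) le_rfl (by decide) (by decide)
      (dvd_trans (by decide) hd) (dvd_trans (by decide) hd)
  · exact h.not_two (r := 7) (s := 19) (by norm_num) (by norm_num) (by decide) (by decide) (by decide)
      (dvd_trans (by decide) hd) (dvd_trans (by decide) hd)

theorem not_psp_even {G : Type*} [Group G] {p : ℕ} (h : Shape p (Nat.card G)) {F : Type*} [Field F]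
    [Fintype F] [CharP F 2] (h4 : 4 ≤ Fintype.card F) (e : G ≃* Cfsg.PSp 2 F) : False := by
  obtain ⟨k, ho, hk⟩ := card_odd (F := F)
  have hc := Cl.Sm.card_psp_mul (F := F) (m := 2) (by decide)
  rw [S0245.result hk 2, Nat.card_eq_fintype_card (α := F), hk, Nat.add_sub_cancel,
    ((Nat.Prime.coprime_iff_not_dvd Nat.prime_two).2 (by omega) : Nat.gcd 2 k = 1), mul_one,
    ← Nat.card_congr e.toEquiv, Finset.prod_range_succ, Finset.prod_range_one,
    show (k + 1) ^ (2 * (0 + 1)) - 1 = k * (k + 2) from Nat.sub_eq_of_eq_add (by ring)] at hc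
  rcases pair h (by omega) ho (hc ▸ (dvd_mul_right _ _).mul_left _) with rfl | rfl
  · exact h.not_two (r := 5) (s := 17) (by norm_num) (by norm_num) le_rfl (by decide) (by decide)
      (by rw [hc]; decide) (by rw [hc]; decide)
  · exact h.not_two (r := 7) (s := 13) (by norm_num) (by norm_num) (by decide) (by decide) (by decide)
      (by rw [hc]; decide) (by rw [hc]; decide)

theorem not_suzuki {G : Type*} [Group G] {p : ℕ} (h : Shape p (Nat.card G)) (h3 : 3 ∣ Nat.card G)
    (e : Cfsg.IsSuzuki G) : False := by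
  obtain ⟨-, m, -, hm⟩ := e
  have h1 : 2 ^ (2 * m + 1) % 3 = 2 := by
    rw [pow_succ, pow_mul, Nat.mul_mod, Nat.pow_mod]
    simp
  obtain ⟨k, hk⟩ : ∃ k, 2 ^ (2 * m + 1) = 3 * k + 2 := ⟨2 ^ (2 * m + 1) / 3, by omega⟩
  rw [hm, hk, Nat.prime_three.dvd_mul, Nat.prime_three.dvd_mul] at h3
  rcases h3 with (h3 | h3) | h3
  · have := Nat.prime_three.dvd_of_dvd_pow h3
    omega
  · rw [show (3 * k + 2) ^ 2 + 1 = 3 * (3 * k ^ 2 + 4 * k + 1) + 2 by ring] at h3
    omega
  · omega

end Cfsg.Agent.K3
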